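import Groth.Agent.Dix.HenselPoints
import Mathlib.RingTheory.Henselian

/-!
# Sections of smooth schemes over henselian local rings lifting points of the closed fibre
-/

set_option autoImplicit false
universe u
open CategoryTheory CategoryTheory.Limits AlgebraicGeometry

namespace Groth.Agent.Sga3.H826.SmSection

open IsLocalRing

theorem henselianLocalRing_of_isAdicComplete (A : Type u) [CommRing A] [IsLocalRing A]
    [IsAdicComplete (maximalIdeal A) A] : HenselianLocalRing A where
  is_henselian := by
    intro f hf a₀ h₁ h₂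
    exact HenselianRing.is_henselian (I := maximalIdeal A) f hf a₀ h₁
      (h₂.map (Ideal.Quotient.mk (maximalIdeal A)))

/-- Sections of a smooth scheme over a henselian local ring lifting points of the closed fibre. -/
theorem exists_lift {R : Type u} [CommRing R] [HenselianLocalRing R]
    {Y : Scheme.{u}} (p : Y ⟶ Spec (CommRingCat.of R)) [Smooth p]
    (t : Spec (CommRingCat.of (ResidueField R)) ⟶ Y)
    (ht : t ≫ p = Spec.map (CommRingCat.ofHom (residue R))) :
    ∃ a : Spec (CommRingCat.of R) ⟶ Y, a ≫ p = 𝟙 _ ∧ Spec.map (CommRingCat.ofHom (residue R)) ≫ a = t := by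
  obtain ⟨U, hU, hzU, -⟩ := exists_isAffineOpen_mem_and_subset (x := t (closedPoint (ResidueField R)))
    (U := ⊤) trivial
  let j : Spec Γ(Y, U) ⟶ Y := hU.fromSpec
  have hr : Set.range t ⊆ Set.range j := by
    rw [hU.range_fromSpec]
    rintro _ ⟨w, rfl⟩
    have : w = closedPoint (ResidueField R) := Subsingleton.elim (α := PrimeSpectrum (ResidueField R)) _ _
    rw [this]
    exact hzU
  let t' : Spec (CommRingCat.of (ResidueField R)) ⟶ Spec Γ(Y, U) := IsOpenImmersion.lift j t hr
  have ht' : t' ≫ j = t := IsOpenImmersion.lift_fac _ _ _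
  obtain ⟨a, ha, ha'⟩ := Groth.Agent.Dix.HenselPoints.exists_lift_point Γ(Y, U) (j ≫ p) t' (by
    rw [← Category.assoc, ht', ht])
  exact ⟨a ≫ j, by rw [Category.assoc, ha], by rw [← Category.assoc, ha', ht']⟩

end Groth.Agent.Sga3.H826.SmSection
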