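import Groth.Agent.Sga3.H784.Commute
import Groth.Agent.Sga3.H797.HomFin
import Groth.Agent.Localalg.GrpSchComp2
import Mathlib.AlgebraicGeometry.Noetherian

/-!
# Centralizers of increasing sequences of groups of points

`K` algebraically closed, `G` an algebraic group over `K`.

* `exists_stab`: the centralizers of the members of an increasing sequence of groups of rational points
  stabilize.
* `hom_ext_torsion_prime`: homomorphisms from a torus are determined by the points of `l`-power order.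
* `exists_centralizer_torsion`: for a torus `T` in `G`, the centralizer in `G(K)` of the points of `T` of
  order `l ^ n` is the centralizer of `T`, for large `n`.
-/

set_option autoImplicit false
universe u
open CategoryTheory MonoidalCategory CartesianMonoidalCategory MonObj GrpObj AlgebraicGeometry
open Groth.Agent.Books.AffBridge Groth.Agent.Books.AffBridge2

namespace Groth.Agent.Sga3.H826.Stab

open Sga3B.RG Sga3B.RG.BrPts Sga3B.RG.BrTorus Sga3B.RG.BrImg Sga3B.RG.BrDiag
open Books.AlgPts Groth.Agent.Sga3.H784.Commute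

variable {K : Type u} [Field K]

/-- The base point. -/
local notation "𝟏" => 𝟙_ (Over (Spec (CommRingCat.of K)))

variable [IsAlgClosed K]

/-- The set of points of `G` which commute with the rational point `e` is closed. -/
theorem exists_closed_commute {G : Over (Spec (CommRingCat.of K))} [GrpObj G]
    [LocallyOfFiniteType G.hom] (e : 𝟏 ⟶ G) : ∃ V : Set G.left, IsClosed V ∧
      ∀ g : 𝟏 ⟶ G, pt g ∈ V ↔ g * e = e * g := by
  have hsep := Groth.Agent.Localalg.GrpSchComp2.isSeparated_hom G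
  obtain ⟨Z, z, hz, huniv, -⟩ := Groth.Agent.Sga3.H797.HomFin.exists_eq
    (𝟙 G * (toUnit G ≫ e)) ((toUnit G ≫ e) * 𝟙 G)
  have hlft : LocallyOfFiniteType Z.hom := by
    rw [← Over.w z]; infer_instance
  have key : ∀ g : 𝟏 ⟶ G, g ≫ (𝟙 G * (toUnit G ≫ e)) = g ≫ ((toUnit G ≫ e) * 𝟙 G) ↔
      g * e = e * g := by
    intro g
    rw [MonObj.comp_mul, MonObj.comp_mul, Category.comp_id, ← Category.assoc,
      toUnit_unique (g ≫ toUnit G) (𝟙 _), Category.id_comp]
  refine ⟨Set.range z.left, z.left.isClosedEmbedding.isClosed_range, fun g => ?_⟩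
  rw [← key, ← huniv]
  constructor
  · intro h
    obtain ⟨t, ht⟩ := exists_comp_eq_of_pt_mem_range z g h
    exact ⟨t, ht⟩
  · rintro ⟨t, rfl⟩
    rw [pt_comp]
    exact ⟨_, rfl⟩

/-- **Stabilization of centralizers.** -/
theorem exists_stab {G : Over (Spec (CommRingCat.of K))} [GrpObj G]
    [LocallyOfFiniteType G.hom] [QuasiCompact G.hom] (E : ℕ → Subgroup (𝟏 ⟶ G)) (hE : Monotone E) :
    ∃ n, ∀ m, n ≤ m → Subgroup.centralizer (E n : Set (𝟏 ⟶ G)) ≤
      Subgroup.centralizer (E m : Set (𝟏 ⟶ G)) := by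
  have hln : IsLocallyNoetherian G.left := LocallyOfFiniteType.isLocallyNoetherian G.hom
  have hc : CompactSpace G.left := (quasiCompact_iff_compactSpace G.hom).mp inferInstance
  have hn : IsNoetherian G.left := {}
  have hns : TopologicalSpace.NoetherianSpace G.left := inferInstance
  choose V hV1 hV2 using exists_closed_commute (G := G)
  let U : ℕ →o TopologicalSpace.Opens G.left :=
    { toFun := fun n => ⨆ e : E n, ⟨(V e)ᶜ, (hV1 e).isOpen_compl⟩
      monotone' := fun a b hab => by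
        apply iSup_le
        intro e
        exact le_iSup (fun e : E b => (⟨(V e)ᶜ, (hV1 e).isOpen_compl⟩ :
          TopologicalSpace.Opens G.left)) ⟨e.1, hE hab e.2⟩ }
  have hwf : WellFoundedGT (TopologicalSpace.Opens G.left) := hns
  obtain ⟨n, hn⟩ := (wellFoundedGT_iff_monotone_chain_condition).1 hwf U
  refine ⟨n, fun m hm g hg => ?_⟩
  have hmem : ∀ k, g ∈ Subgroup.centralizer (E k : Set (𝟏 ⟶ G)) ↔ pt g ∉ U k := by
    intro k
    have h1 : pt g ∈ U k ↔ ∃ e : E k, pt g ∉ V e := by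
      change pt g ∈ (⨆ e : E k, (⟨(V e)ᶜ, (hV1 e).isOpen_compl⟩ :
          TopologicalSpace.Opens G.left)) ↔ _
      rw [TopologicalSpace.Opens.mem_iSup]
      rfl
    rw [h1, not_exists, Subgroup.mem_centralizer_iff]
    constructor
    · intro h e
      rw [not_not, hV2]
      exact (h e.1 e.2).symm
    · intro h e he
      have := h ⟨e, he⟩
      rw [not_not, hV2] at this
      exact this.symm
  rw [hmem, ← hn m hm, ← hmem]
  exact hg

/-- Morphisms from a torus to a separated scheme which agree on points of `l`-power order are equal. -/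
theorem hom_ext_torsion_prime {T G : Over (Spec (CommRingCat.of K))} [GrpObj T] [IsSeparated G.hom]
    (hT : Red.IsTorus T) {l : ℕ} (hl : l.Prime) (hl0 : (l : K) ≠ 0) (f g : T ⟶ G)
    (h : ∀ (x : 𝟏 ⟶ T) (n : ℕ), x ^ l ^ n = 1 → x ≫ f = x ≫ g) : f = g := by
  obtain ⟨n, e, he⟩ := isTorus_iff.1 hT
  have hei : IsMonHom e.inv := inferInstance
  rw [← cancel_epi e.inv]
  refine Groth.Agent.Sga3.H784.Torsion.hom_ext_of_dense {x | ∃ m : ℕ, x ^ l ^ m = 1}
    (fun a ha => ?_) _ _ fun x hx => ?_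
  · refine eq_zero_of_torsion hl hl0 a fun i t ht => ha _ ⟨i, ?_⟩
    rw [← map_pow]
    have h1 : t ^ (l ^ i) = 1 := MonoidHom.ext fun x => ht x
    rw [h1, map_one]
  · obtain ⟨m, hxm⟩ := hx
    rw [← Category.assoc, ← Category.assoc]
    refine h _ m ?_
    have h1 := map_pow ((ptHom _ e.inv).comp (ptEquiv K (KZ K n)).toMonoidHom) x (l ^ m)
    rw [hxm, map_one] at h1
    exact h1.symm

/-- The points of order `l ^ n` of `T`, in `G`. -/
noncomputable def tors {T G : Over (Spec (CommRingCat.of K))} [GrpObj T] [GrpObj G] (i : T ⟶ G)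
    [IsMonHom i] (hT : ∀ x y : 𝟏 ⟶ T, x * y = y * x) (l n : ℕ) : Subgroup (𝟏 ⟶ G) where
  carrier := {g | ∃ t : 𝟏 ⟶ T, t ^ l ^ n = 1 ∧ t ≫ i = g}
  one_mem' := ⟨1, one_pow _, MonObj.one_comp i⟩
  mul_mem' := by
    rintro _ _ ⟨a, ha, rfl⟩ ⟨b, hb, rfl⟩
    refine ⟨a * b, ?_, MonObj.mul_comp _ _ _⟩
    rw [(show Commute a b from hT a b).mul_pow, ha, hb, _root_.one_mul]
  inv_mem' := by
    rintro _ ⟨a, ha, rfl⟩
    exact ⟨a⁻¹, by rw [inv_pow, ha, inv_one], GrpObj.inv_comp _ _⟩

theorem exists_centralizer_torsion {T G : Over (Spec (CommRingCat.of K))} [GrpObj T] [GrpObj G]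
    [LocallyOfFiniteType G.hom] [QuasiCompact G.hom] (i : T ⟶ G) [IsMonHom i]
    (hT : Red.IsTorus T) (hTc : ∀ x y : 𝟏 ⟶ T, x * y = y * x) {l : ℕ} (hl : l.Prime)
    (hl0 : (l : K) ≠ 0) :
    ∃ n, ∀ m, n ≤ m → ∀ g ∈ Subgroup.centralizer (tors i hTc l m : Set (𝟏 ⟶ G)),
      i * (toUnit T ≫ g) = (toUnit T ≫ g) * i := by
  have hsep := Groth.Agent.Localalg.GrpSchComp2.isSeparated_hom G
  have hmono : Monotone (tors i hTc l) := by
    rintro a b hab _ ⟨t, ht, rfl⟩
    refine ⟨t, ?_, rfl⟩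
    rw [← Nat.sub_add_cancel hab, add_comm, pow_add, pow_mul, ht, one_pow]
  obtain ⟨n, hn⟩ := exists_stab (tors i hTc l) hmono
  refine ⟨n, fun m hm g hg => ?_⟩
  have hg' : g ∈ Subgroup.centralizer (tors i hTc l n : Set (𝟏 ⟶ G)) :=
    Subgroup.centralizer_le (hmono hm) hg
  apply hom_ext_torsion_prime hT hl hl0
  intro x k hx
  have h1 : x ≫ i ∈ tors i hTc l (max n k) := by
    refine ⟨x, ?_, rfl⟩
    rw [← Nat.sub_add_cancel (le_max_right n k), add_comm, pow_add, pow_mul, hx, one_pow]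
  have h2 := Subgroup.mem_centralizer_iff.1 (hn _ (le_max_left n k) hg') _ h1
  rw [MonObj.comp_mul, MonObj.comp_mul, ← Category.assoc, toUnit_unique (x ≫ toUnit T) (𝟙 _),
    Category.id_comp]
  exact h2

end Groth.Agent.Sga3.H826.Stab
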