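import Groth.Agent.Sga3.H831.TorsReg
import Groth.Agent.Sga3B.RG.ConeFix

/-!
# The points of `l`-power order of a torus form a divisible group
-/

set_option autoImplicit false
universe u
open CategoryTheory MonoidalCategory CartesianMonoidalCategory MonObj GrpObj AlgebraicGeometry

namespace Groth.Agent.Sga3.H826.TorDiv

open Sga3B.RG

/-- Roots in the `l`-power torsion. -/
theorem exists_root_aux {M : Type*} [Group M] {l : ℕ} (hl : l.Prime)
    (hM : ∀ (x : M) (a : ℕ), ∃ y : M, y ^ l ^ a = x) (x : M) (n : ℕ) (hx : x ^ l ^ n = 1) (m : ℕ)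
    (hm : 0 < m) : ∃ (y : M) (k : ℕ), y ^ l ^ k = 1 ∧ y ^ m = x := by
  obtain ⟨a, m', hm', rfl⟩ := Nat.exists_eq_pow_mul_and_not_dvd hm.ne' l hl.ne_one
  have hco : Nat.Coprime m' (l ^ n) :=
    Nat.Coprime.pow_right _ ((Nat.Prime.coprime_iff_not_dvd hl).2 hm').symm
  have hb := Nat.gcd_eq_gcd_ab m' (l ^ n)
  rw [hco.gcd_eq_one] at hb
  set A := Nat.gcdA m' (l ^ n)
  set B := Nat.gcdB m' (l ^ n)
  have hz1 : (x ^ A) ^ m' = x := by
    have h1 : x ^ ((m' : ℤ) * A + ((l ^ n : ℕ) : ℤ) * B) = x := by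
      rw [← hb]; simp
    rw [zpow_add, zpow_mul, zpow_mul, zpow_natCast x (l ^ n), hx, one_zpow, _root_.mul_one] at h1
    rw [← zpow_natCast (x ^ A) m', ← zpow_mul, _root_.mul_comm, zpow_mul]
    exact h1
  have hz2 : (x ^ A) ^ l ^ n = 1 := by
    rw [← zpow_natCast (x ^ A), ← zpow_mul, _root_.mul_comm, zpow_mul, zpow_natCast, hx, one_zpow]
  obtain ⟨y, hy⟩ := hM (x ^ A) a
  refine ⟨y, a + n, ?_, ?_⟩
  · rw [pow_add, pow_mul, hy, hz2]
  · rw [pow_mul, hy, hz1]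

variable {K : Type u} [Field K] [IsAlgClosed K]

/-- Characters have roots. -/
theorem exists_root_hom (n : ℕ) (χ : Multiplicative (Fin n → ℤ) →* Kˣ) {m : ℕ} (hm : 0 < m) :
    ∃ ψ : Multiplicative (Fin n → ℤ) →* Kˣ, ψ ^ m = χ := by
  have hr : ∀ z : Kˣ, ∃ w : Kˣ, w ^ m = z := by
    intro z
    obtain ⟨w, hw⟩ := IsAlgClosed.exists_pow_nat_eq (z : K) hm
    have hw0 : w ≠ 0 := by
      rintro rfl
      rw [zero_pow hm.ne'] at hw
      exact z.ne_zero hw.symm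
    exact ⟨Units.mk0 w hw0, Units.ext hw⟩
  choose r hr using hr
  refine ⟨∏ i, torOf (AddMonoidHom.toMultiplicative (Pi.evalAddMonoidHom (fun _ : Fin n => ℤ) i))
          (r (χ (Multiplicative.ofAdd (Pi.single i 1)))), ?_⟩
  rw [← Finset.prod_pow]
  conv_rhs => rw [ConeFix.torus_eq_prod χ]
  refine Finset.prod_congr rfl fun i _ => ?_
  rw [← map_pow, hr]

/-- **The points of `l`-power order of a torus form a divisible group.** -/
theorem exists_root {T : Over (Spec (CommRingCat.of K))} [GrpObj T] (hT : Red.IsTorus T) {l : ℕ}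
    (hl : l.Prime) (x : 𝟙_ (Over (Spec (CommRingCat.of K))) ⟶ T) (n : ℕ) (hx : x ^ l ^ n = 1)
    (m : ℕ) (hm : 0 < m) :
    ∃ (y : 𝟙_ (Over (Spec (CommRingCat.of K))) ⟶ T) (k : ℕ), y ^ l ^ k = 1 ∧ y ^ m = x := by
  obtain ⟨r, ⟨E⟩⟩ := H831.TorsReg.exists_ptsEquiv hT
  refine exists_root_aux hl (fun x a => ?_) x n hx m hm
  obtain ⟨ψ, hψ⟩ := exists_root_hom r (E.symm x) (pow_pos hl.pos a)
  refine ⟨E ψ, ?_⟩
  have h := map_pow E.toMonoidHom ψ (l ^ a)
  rw [hψ] at h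
  exact h.symm.trans (E.apply_symm_apply x)

end Groth.Agent.Sga3.H826.TorDiv
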