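import Groth.Agent.Sga3B.RG.Rel885
import Groth.Agent.Sga3B.RG.CentralTorus
import Groth.Agent.Sga3B.RG.DynTor
import Groth.Agent.Sga3B.RG.ConnAct
import Groth.Agent.Sga3B.RG.BrTorus

/-!
# Divisible torsion groups are dense in tori

`K` algebraically closed, `A` a reduced commutative Hopf algebra of finite type, `E` a commutative divisible
subgroup of the group of points all of whose elements have finite order prime to the characteristic.
Then the closure of `E` is a torus (`isTorusSub_clSub`).  In particular, if the group is connected, the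
centralizer of `E` is connected (`isConn_centralizer`).
-/

set_option autoImplicit false

universe u

namespace Groth.Agent.Sga3.H826.DivTorus

open Groth.Agent.Sga3B.RG

variable {K : Type u} [Field K] {A : Type u} [CommRing A] [HopfAlgebra K A]

/-- A unipotent point of finite order prime to the characteristic is trivial. -/
theorem eq_one_of_isUnip_of_pow [IsAlgClosed K] [Algebra.FiniteType K A] [IsReduced A]
    {g : Pt K A} (hg : IsUnip g) {n : ℕ} (hn : (n : K) ≠ 0)
    (h : g ^ n = 1) : g = 1 := by
  set U : Module.End K A := (rTr g).toLinearMap with hU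
  have hUn : U ^ n = 1 := by
    have h1 := map_pow (rTrRep K A) g n
    rw [h, map_one] at h1
    exact h1.symm
  have key : ∀ b : A, (((U - 1) ^ 2 : Module.End K A)) b = 0 → (U - 1) b = 0 := by
    intro b hb
    have h1 : ∀ m : ℕ, (U ^ m) b = b + (m : K) • (U - 1) b := by
      intro m
      induction m with
      | zero => simp
      | succ m ih =>
        rw [pow_succ', Module.End.mul_apply, ih, map_add, map_smul]
        have h2 : U ((U - 1) b) = (U - 1) b := by
          have : (U - 1) ((U - 1) b) = 0 := by rwa [pow_two] at hb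
          rw [LinearMap.sub_apply (f := U) (g := 1), sub_eq_zero] at this
          exact this
        rw [h2]
        have h3 : U b = b + (U - 1) b := by
          rw [LinearMap.sub_apply]; simp
        rw [h3]
        push_cast
        rw [add_smul, one_smul]
        abel
    have h2 := h1 n
    rw [hUn, Module.End.one_apply, left_eq_add] at h2
    exact (smul_eq_zero.mp h2).resolve_left hn
  have key2 : ∀ (k : ℕ) (a : A), ((U - 1) ^ (k + 1) : Module.End K A) a = 0 → (U - 1) a = 0 := by
    intro k
    induction k with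
    | zero => intro a ha; simpa using ha
    | succ k ih =>
      intro a ha
      apply ih
      rw [pow_succ', Module.End.mul_apply]
      apply key
      rw [← Module.End.mul_apply, ← pow_add, add_comm 2 k]
      exact ha
  apply Pt.ext'
  intro a
  obtain ⟨k, hk⟩ := hg a
  have h1 : (U - 1) a = 0 := by
    apply key2 k
    rw [pow_succ', Module.End.mul_apply]
    have : ((U - 1) ^ k : Module.End K A) a = 0 := hk
    rw [this, map_zero]
  have h2 : rTr g a = a := by
    rw [LinearMap.sub_apply, sub_eq_zero] at h1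
    exact h1
  have h3 := rTr_apply_pt g 1 a
  rw [h2, one_mul] at h3
  exact h3.symm

variable [IsAlgClosed K] [Algebra.FiniteType K A] [IsReduced A]

theorem isUnip_pow {g : Pt K A} (hg : IsUnip g) (n : ℕ) :
    IsUnip (g ^ n) := by
  intro a
  obtain ⟨k, hk⟩ := hg a
  refine ⟨k, ?_⟩
  have h1 : (rTr (g ^ n)).toLinearMap = ((rTr g).toLinearMap) ^ n := map_pow (rTrRep K A) g n
  rw [h1]
  obtain ⟨c, hc, hcomm⟩ : ∃ c : Module.End K A, (rTr g).toLinearMap ^ n - 1 =
      c * ((rTr g).toLinearMap - 1) ∧ Commute c ((rTr g).toLinearMap - 1 : Module.End K A) := by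
    refine ⟨∑ i ∈ Finset.range n, (rTr g).toLinearMap ^ i, ?_, ?_⟩
    · rw [geom_sum_mul]
    · refine Commute.sum_left _ _ _ fun i _ => ?_
      exact (Commute.sub_right (Commute.pow_self _ i) (Commute.one_right _))
  rw [hc, hcomm.mul_pow, Module.End.mul_apply, hk, map_zero]

/-- **The closure of a divisible torsion group is a torus.** -/
theorem isTorusSub_clSub {E : Subgroup (Pt K A)} (hc : ∀ x ∈ E, ∀ y ∈ E, x * y = y * x)
    (htors : ∀ x ∈ E, ∃ n : ℕ, (n : K) ≠ 0 ∧ x ^ n = 1)
    (hdiv : ∀ x ∈ E, ∀ m : ℕ, 0 < m → ∃ y ∈ E, y ^ m = x) : IsTorusSub (clSub E) := by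
  have hcl : IsCl (clSub E : Set (Pt K A)) := isCl_clSub E
  have hcc : ∀ x ∈ clSub E, ∀ y ∈ clSub E, x * y = y * x := clSub_commute hc
  set D : Subgroup (Pt K A) := idComp (clSub E) with hD
  have hDcl : IsCl (D : Set (Pt K A)) := isCl_idComp _
  have hDconn : IsConn (D : Set (Pt K A)) := isConn_idComp _
  have hDle : D ≤ clSub E := idComp_le hcl
  have hED : E ≤ D := by
    intro x hx
    have hidx : (D.relIndex (clSub E)) ≠ 0 := relIndex_idComp_ne_zero hcl
    obtain ⟨y, hy, rfl⟩ := hdiv x hx _ (Nat.pos_of_ne_zero hidx)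
    have hn : (D.subgroupOf (clSub E)).Normal := by
      constructor
      intro a ha b
      have h1 : b * a * b⁻¹ = a := by
        apply Subtype.ext
        change (b : Pt K A) * a * (b : Pt K A)⁻¹ = a
        rw [hcc _ b.2 _ a.2, mul_inv_cancel_right]
      rwa [h1]
    have h2 := Subgroup.pow_index_mem (D.subgroupOf (clSub E)) ⟨y, le_clSub E hy⟩
    rw [Subgroup.mem_subgroupOf] at h2
    exact h2
  -- the group `D`
  have hdom : IsDomain (A ⧸ vanIdeal (D : Set (Pt K A))) :=
    (Ideal.Quotient.isDomain_iff_prime _).2 hDconn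
  obtain ⟨T, hT⟩ := exists_isMaxTorusSub K (A ⧸ vanIdeal (D : Set (Pt K A)))
  have hcB : ∀ x y : Pt K (A ⧸ vanIdeal (D : Set (Pt K A))), x * y = y * x := by
    intro x y
    apply (subEquiv D hDcl).injective
    apply Subtype.ext
    rw [map_mul, map_mul]
    exact hcc _ (hDle (subEquiv D hDcl x).2) _ (hDle (subEquiv D hDcl y).2)
  have hTc : T ≤ Subgroup.center (Pt K (A ⧸ vanIdeal (D : Set (Pt K A)))) := fun x _ =>
    Subgroup.mem_center_iff.2 fun y => hcB y x
  have hTt : IsTorusSub (T.map (quotMap (vanIdeal (D : Set (Pt K A))))) :=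
    (isTorusSub_map_iff (φ := Bialgebra.Quotient.mkBialgHom (R := K)
      (vanIdeal (D : Set (Pt K A)))) Ideal.Quotient.mk_surjective).2 hT.1
  have hET : E ≤ T.map (quotMap (vanIdeal (D : Set (Pt K A)))) := by
    intro x hx
    obtain ⟨n, hn, hxn⟩ := htors x hx
    obtain ⟨s, hs, v, hv, hsv⟩ := CentralTorus.exists_mul_unip hT hTc
      ((subEquiv D hDcl).symm ⟨x, hED hx⟩)
    have hv1 : v = 1 := by
      apply eq_one_of_isUnip_of_pow hv hn
      have h1 : s ^ n * v ^ n = 1 := by
        rw [← (show Commute s v from hcB s v).mul_pow, ← hsv, ← map_pow]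
        have : (⟨x, hED hx⟩ : D) ^ n = 1 := Subtype.ext hxn
        rw [this, map_one]
      have h2 : v ^ n ∈ T := by
        rw [eq_inv_of_mul_eq_one_right h1]
        exact T.inv_mem (T.pow_mem hs n)
      obtain ⟨m, π, hπ, hTπ⟩ := hT.1
      rw [hTπ] at h2
      obtain ⟨z, hz⟩ := h2
      have h3 : IsUnip (Pt.map π z) := by
        rw [hz]
        exact isUnip_pow hv n
      rw [← hz, BrTorus.eq_one_of_unip π hπ z h3, map_one]
    refine ⟨s, hs, ?_⟩
    rw [hv1, mul_one] at hsv
    rw [← hsv]
    change ((subEquiv D hDcl ((subEquiv D hDcl).symm ⟨x, hED hx⟩) : D) : Pt K A) = x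
    rw [MulEquiv.apply_symm_apply]
  have hTD : T.map (quotMap (vanIdeal (D : Set (Pt K A)))) ≤ D := by
    rintro _ ⟨y, -, rfl⟩
    exact (subEquiv D hDcl y).2
  have h1 : clSub E ≤ T.map (quotMap (vanIdeal (D : Set (Pt K A)))) := clSub_le hET hTt.isCl
  rw [le_antisymm h1 (hTD.trans hDle)]
  exact hTt

/-- The centralizer of a divisible torsion group is the centralizer of a torus. -/
theorem centralizer_eq (E : Subgroup (Pt K A)) :
    Subgroup.centralizer (E : Set (Pt K A)) = Subgroup.centralizer (clSub E : Set (Pt K A)) := by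
  apply le_antisymm
  · rw [Subgroup.le_centralizer_iff]
    exact clSub_le_centralizer (Subgroup.le_centralizer_iff.1 le_rfl)
  · exact Subgroup.centralizer_le (le_clSub E)

/-- The centralizer of a divisible torsion group of a connected group is connected. -/
theorem isConn_centralizer [IsDomain A] {E : Subgroup (Pt K A)}
    (hc : ∀ x ∈ E, ∀ y ∈ E, x * y = y * x)
    (htors : ∀ x ∈ E, ∃ n : ℕ, (n : K) ≠ 0 ∧ x ^ n = 1)
    (hdiv : ∀ x ∈ E, ∀ m : ℕ, 0 < m → ∃ y ∈ E, y ^ m = x) :
    IsConn (Subgroup.centralizer (E : Set (Pt K A)) : Set (Pt K A)) := by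
  rw [centralizer_eq]
  exact (isTorusSub_clSub hc htors hdiv).isConn_centralizer

end Groth.Agent.Sga3.H826.DivTorus
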